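import Cfsg.Agent.Lib.Helper67.LSF.Defs

/-!
# Package [TREE] of project LSF (S5286), helper70

A finite subgroup of `FreeGroup X ⋊ Q` fixes a vertex of every invariant convex set of vertices of
the Cayley tree.  The fixed vertex is a minimiser of the radius function
`R v = max_{h ∈ H} |v⁻¹ * h.left|`.
-/

set_option autoImplicit false

namespace Cfsg.Agent.Lib.Helper70.LSF

open Cfsg Cfsg.Agent.Lib.Helper67.LSF

universe u

section

variable {Q : Type u} [Group Q] {X : Type u} (α : Q →* Equiv.Perm X)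

/-- the affine action of `FreeGroup X ⋊ Q` on `FreeGroup X` -/
noncomputable def act (h : SemidirectProduct (FreeGroup X) Q (autX α)) (v : FreeGroup X) :
    FreeGroup X := h.left * autX α h.right v

theorem act_one (v : FreeGroup X) : act α 1 v = v := by
  simp [act]

theorem act_mul (h₁ h₂ : SemidirectProduct (FreeGroup X) Q (autX α)) (v : FreeGroup X) :
    act α (h₁ * h₂) v = act α h₁ (act α h₂ v) := by
  simp only [act, SemidirectProduct.mul_left, SemidirectProduct.mul_right, map_mul,
    MulAut.mul_apply, mul_assoc]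

theorem act_left (h : SemidirectProduct (FreeGroup X) Q (autX α)) : act α h 1 = h.left := by
  simp [act]

theorem autX_eq_map (q : Q) (w : FreeGroup X) : autX α q w = FreeGroup.map (α q) w := rfl

theorem norm_map_le' {Y : Type u} [DecidableEq X] [DecidableEq Y] (f : X → Y) (w : FreeGroup X) :
    (FreeGroup.map f w).norm ≤ w.norm := by
  conv_lhs => rw [← FreeGroup.mk_toWord (x := w), FreeGroup.map.mk]
  refine le_trans FreeGroup.norm_mk_le ?_
  simp [FreeGroup.norm]

theorem norm_autX [DecidableEq X] (q : Q) (w : FreeGroup X) : (autX α q w).norm = w.norm := by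
  have h1 : ∀ (q : Q) (w : FreeGroup X), (autX α q w).norm ≤ w.norm := by
    intro q w
    rw [autX_eq_map]
    exact norm_map_le' _ _
  refine le_antisymm (h1 q w) ?_
  have h2 := h1 q⁻¹ (autX α q w)
  have e : autX α q⁻¹ (autX α q w) = w := by
    rw [← MulAut.mul_apply, ← map_mul, inv_mul_cancel, map_one, MulAut.one_apply]
  rwa [e] at h2

/-- the action is by isometries of the word metric -/
theorem act_dist [DecidableEq X] (h : SemidirectProduct (FreeGroup X) Q (autX α))
    (a b : FreeGroup X) : ((act α h a)⁻¹ * act α h b).norm = (a⁻¹ * b).norm := by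
  have e : (act α h a)⁻¹ * act α h b = autX α h.right (a⁻¹ * b) := by
    simp only [act, mul_inv_rev, map_mul, map_inv, mul_assoc, inv_mul_cancel_left]
  rw [e, norm_autX]

/-- the radius function of the orbit of `1` -/
noncomputable def Rf [DecidableEq X] (H : Subgroup (SemidirectProduct (FreeGroup X) Q (autX α)))
    [Fintype H] (v : FreeGroup X) : ℕ :=
  Finset.univ.sup fun h : H =>
    (v⁻¹ * (h : SemidirectProduct (FreeGroup X) Q (autX α)).left).norm

theorem le_Rf [DecidableEq X] (H : Subgroup (SemidirectProduct (FreeGroup X) Q (autX α)))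
    [Fintype H] (v : FreeGroup X) (h : H) :
    (v⁻¹ * (h : SemidirectProduct (FreeGroup X) Q (autX α)).left).norm ≤ Rf α H v :=
  Finset.le_sup (f := fun h : H =>
    (v⁻¹ * (h : SemidirectProduct (FreeGroup X) Q (autX α)).left).norm) (Finset.mem_univ h)

theorem Rf_act_le [DecidableEq X] (H : Subgroup (SemidirectProduct (FreeGroup X) Q (autX α)))
    [Fintype H] (g : H) (v : FreeGroup X) :
    Rf α H (act α (g : SemidirectProduct (FreeGroup X) Q (autX α)) v) ≤ Rf α H v := by
  refine Finset.sup_le ?_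
  intro h _
  have e0 : ((g : SemidirectProduct (FreeGroup X) Q (autX α)) *
      ((g⁻¹ * h : H) : SemidirectProduct (FreeGroup X) Q (autX α))) = h := by
    rw [← Subgroup.coe_mul, mul_inv_cancel_left]
  have e1 : (h : SemidirectProduct (FreeGroup X) Q (autX α)).left =
      act α g (act α ((g⁻¹ * h : H) : SemidirectProduct (FreeGroup X) Q (autX α)) 1) := by
    rw [← act_mul, e0, act_left]
  show ((act α (g : SemidirectProduct (FreeGroup X) Q (autX α)) v)⁻¹ *
    (h : SemidirectProduct (FreeGroup X) Q (autX α)).left).norm ≤ _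
  rw [e1, act_dist, act_left]
  exact le_Rf α H v (g⁻¹ * h)

theorem Rf_act [DecidableEq X] (H : Subgroup (SemidirectProduct (FreeGroup X) Q (autX α)))
    [Fintype H] (g : H) (v : FreeGroup X) :
    Rf α H (act α (g : SemidirectProduct (FreeGroup X) Q (autX α)) v) = Rf α H v := by
  refine le_antisymm (Rf_act_le α H g v) ?_
  have h2 := Rf_act_le α H g⁻¹ (act α (g : SemidirectProduct (FreeGroup X) Q (autX α)) v)
  have e : act α ((g⁻¹ : H) : SemidirectProduct (FreeGroup X) Q (autX α))
      (act α (g : SemidirectProduct (FreeGroup X) Q (autX α)) v) = v := by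
    rw [← act_mul, Subgroup.coe_inv, inv_mul_cancel, act_one]
  rwa [e] at h2

end

/-- package [TREE] -/
theorem pkgTree : PkgVShape.{u} → PkgTree.{u} := by
  intro hVS Q _ X α H hfin V h1 hinv hconv
  classical
  haveI : Fintype H := Fintype.ofFinite H
  -- a minimiser of the radius function on `V`
  have hne : ∃ n, ∃ v ∈ V, Rf α H v = n := ⟨_, 1, h1, rfl⟩
  obtain ⟨v, hvV, hvn⟩ := Nat.find_spec hne
  have hmin : ∀ v' ∈ V, Rf α H v ≤ Rf α H v' := fun v' hv' => by
    rw [hvn]
    exact Nat.find_min' hne ⟨v', hv', rfl⟩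
  -- two minimisers are at distance at most one
  have hA : ∀ v' ∈ V, Rf α H v' = Rf α H v → (v⁻¹ * v').norm ≤ 1 := by
    intro v' hv' hR
    by_contra hlt
    push_neg at hlt
    obtain ⟨ℓ, L₂, hL⟩ : ∃ ℓ L₂, (v⁻¹ * v').toWord = ℓ :: L₂ := by
      cases hw : (v⁻¹ * v').toWord with
      | nil =>
        have h0 : (v⁻¹ * v').norm = 0 := by simp [FreeGroup.norm, hw]
        omega
      | cons ℓ L₂ => exact ⟨ℓ, L₂, rfl⟩
    have hL₂ : L₂ ≠ [] := by
      rintro rfl
      have h0 : (v⁻¹ * v').norm = 1 := by simp [FreeGroup.norm, hL]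
      omega
    have hred : FreeGroup.IsReduced ([ℓ] ++ L₂) := by
      have h0 := FreeGroup.isReduced_toWord (x := v⁻¹ * v')
      rwa [hL] at h0
    have hmk : FreeGroup.mk ([ℓ] ++ L₂) = v⁻¹ * v' := by
      have h0 := FreeGroup.mk_toWord (x := v⁻¹ * v')
      rwa [hL] at h0
    have hv'eq : v * FreeGroup.mk ([ℓ] ++ L₂) = v' := by rw [hmk, mul_inv_cancel_left]
    have hmid : v * FreeGroup.mk [ℓ] ∈ V :=
      hconv v hvV [ℓ] L₂ hred (by rw [hv'eq]; exact hv')
    have hterm : ∀ h : H, ((v * FreeGroup.mk [ℓ])⁻¹ *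
        (h : SemidirectProduct (FreeGroup X) Q (autX α)).left).norm < Rf α H v := by
      intro h
      generalize ho : (h : SemidirectProduct (FreeGroup X) Q (autX α)).left = o
      have e1 : ((v * FreeGroup.mk [ℓ])⁻¹ * o).norm = (o⁻¹ * v * FreeGroup.mk [ℓ]).norm := by
        rw [← FreeGroup.norm_inv_eq]
        congr 1
        group
      have e2 : (o⁻¹ * v).norm = (v⁻¹ * o).norm := by
        rw [← FreeGroup.norm_inv_eq]
        congr 1
        group
      have e3 : (o⁻¹ * v * FreeGroup.mk ([ℓ] ++ L₂)).norm = (v'⁻¹ * o).norm := by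
        rw [← FreeGroup.norm_inv_eq, mul_assoc, hv'eq]
        congr 1
        group
      have key := hVS (o⁻¹ * v) [ℓ] L₂ hred (by simp) hL₂
      rw [e1]
      refine lt_of_lt_of_le key (max_le ?_ ?_)
      · rw [e2, ← ho]
        exact le_Rf α H v h
      · rw [e3, ← hR, ← ho]
        exact le_Rf α H v' h
    have hpos : 0 < Rf α H v := lt_of_le_of_lt (Nat.zero_le _) (hterm 1)
    have hlt2 : Rf α H (v * FreeGroup.mk [ℓ]) < Rf α H v :=
      (Finset.sup_lt_iff (by rw [Nat.bot_eq_zero]; exact hpos)).mpr (fun h _ => hterm h)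
    exact absurd (hmin _ hmid) (not_le.mpr hlt2)
  -- the minimiser is fixed
  refine ⟨v, hvV, ?_⟩
  intro h hh
  by_contra hne'
  have hne2 : act α h v ≠ v := hne'
  have hv'V : act α h v ∈ V := hinv h hh v hvV
  have hR' : Rf α H (act α h v) = Rf α H v := Rf_act α H ⟨h, hh⟩ v
  have hn1 := hA _ hv'V hR'
  have hn0 : (v⁻¹ * act α h v).norm ≠ 0 := by
    rw [Ne, FreeGroup.norm_eq_zero, inv_mul_eq_one]
    exact fun e => hne2 e.symm
  obtain ⟨ℓ, hℓ⟩ : ∃ ℓ, (v⁻¹ * act α h v).toWord = [ℓ] := by
    have hlen : (v⁻¹ * act α h v).toWord.length = 1 := by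
      have h0 : (v⁻¹ * act α h v).norm = 1 := by omega
      exact h0
    exact List.length_eq_one_iff.mp hlen
  have hw : v⁻¹ * act α h v = FreeGroup.mk [ℓ] := by
    have h0 := FreeGroup.mk_toWord (x := v⁻¹ * act α h v)
    rw [hℓ] at h0
    exact h0.symm
  have hv''V : act α h (act α h v) ∈ V := hinv h hh _ hv'V
  have hR'' : Rf α H (act α h (act α h v)) = Rf α H v := by
    rw [Rf_act α H ⟨h, hh⟩ (act α h v), hR']
  have hn2 := hA _ hv''V hR''
  have e1 : act α h (act α h v) = act α h v * autX α h.right (v⁻¹ * act α h v) := by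
    simp only [act, map_mul, map_inv]
    group
  have hcalc : v⁻¹ * act α h (act α h v) = FreeGroup.mk [ℓ, (α h.right ℓ.1, ℓ.2)] := by
    rw [e1, ← mul_assoc, hw, autX_mk]
    rfl
  have hred2 : FreeGroup.IsReduced [ℓ, (α h.right ℓ.1, ℓ.2)] := by
    rw [FreeGroup.isReduced_cons_cons]
    exact ⟨fun _ => rfl, FreeGroup.IsReduced.singleton⟩
  have hnorm2 : (FreeGroup.mk [ℓ, (α h.right ℓ.1, ℓ.2)]).norm = 2 := by
    simp only [FreeGroup.norm, FreeGroup.toWord_mk, hred2.reduce_eq]
    rfl
  rw [hcalc, hnorm2] at hn2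
  omega

end Cfsg.Agent.Lib.Helper70.LSF
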